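import Groth.Agent.VAmpleX.AnyBase17
import Groth.Agent.S9695
import Groth.Agent.AmpleX.Comp
import Groth.Agent.PnCoh.Chow.Proper

/-!
# Ampleness and projective embeddings over a base with an ample sheaf
-/

set_option autoImplicit false
set_option backward.isDefEq.respectTransparency false
set_option backward.isDefEq.respectTransparency.types false
set_option linter.style.haveILetI false

universe u

open CategoryTheory CategoryTheory.Limits AlgebraicGeometry

namespace Groth.Agent.ProjAmple17

variable {X S : Scheme.{u}}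

/-- Over a base with an ample sheaf, a relatively ample sheaf gives an ample one. -/
theorem exists_isAmple_of_isRelAmple (hS : ∃ N : S.Modules, CohB1.IsAmple N) (f : X ⟶ S) {L : X.Modules}
    (hL : RelAmple.IsRelAmple f L) : ∃ L' : X.Modules, CohB1.IsAmple L' := by
  obtain ⟨N, hN⟩ := hS
  haveI : CompactSpace S := hN.2.1
  haveI := hL.1
  haveI : QuasiCompact (specULiftZIsTerminal.from S) := (quasiCompact_iff_compactSpace _).2 inferInstance
  obtain ⟨n₀, -, h⟩ := AmpleX.eventually_isRelAmple_comp f (specULiftZIsTerminal.from S) hL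
    ((AmpleX.isRelAmple_iff_isAmple (specULiftZIsTerminal.from S) N).2 hN)
  haveI := (h n₀ le_rfl).1
  exact ⟨_, (AmpleX.isRelAmple_iff_isAmple _ _).1 (h n₀ le_rfl)⟩

/-- An ample sheaf gives a quasi-compact immersion into projective space over the base. -/
theorem exists_immersion_of_isAmple (f : X ⟶ S) [LocallyOfFiniteType f] [QuasiCompact f] {L : X.Modules}
    (hL : CohB1.IsAmple L) : ∃ (n : ℕ) (i : X ⟶ CohB1.ProjSpaceOver n S), IsImmersion i ∧ QuasiCompact i ∧
      i ≫ CohB1.ProjSpaceOver.toBase n S = f := by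
  obtain ⟨d, hd⟩ := VAmpleX.eventually_veryAmple_gen f hL
  obtain ⟨n, i, hi, hc, -⟩ := hd d le_rfl
  haveI : IsProper (CohB1.ProjSpaceOver.toBase n S) :=
    MorphismProperty.pullback_snd _ _ (PnCoh.Chow.isProper_toSpec n _)
  haveI : QuasiCompact (i ≫ CohB1.ProjSpaceOver.toBase n S) := by
    rw [show i ≫ CohB1.ProjSpaceOver.toBase n S = f from hc]; infer_instance
  exact ⟨n, i, hi, QuasiCompact.of_comp i (CohB1.ProjSpaceOver.toBase n S), hc⟩

/-- An immersion into projective space over a base gives a relatively ample sheaf. -/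
theorem exists_isRelAmple_of_immersion {n : ℕ} (i : X ⟶ CohB1.ProjSpaceOver n S) [IsImmersion i] [QuasiCompact i] :
    ∃ L : X.Modules, RelAmple.IsRelAmple (i ≫ CohB1.ProjSpaceOver.toBase n S) L := by
  haveI : IsProper (CohB1.ProjSpaceOver.toBase n S) :=
    MorphismProperty.pullback_snd _ _ (PnCoh.Chow.isProper_toSpec n _)
  exact ⟨_, S9695.isRelAmple_of_veryAmplePn _ ⟨n, i, ‹_›, rfl, ⟨Iso.refl _⟩⟩⟩

/-- An ample sheaf is relatively ample. -/
theorem exists_isRelAmple_of_isAmple (f : X ⟶ S) [LocallyOfFiniteType f] [QuasiCompact f] {L : X.Modules}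
    (hL : CohB1.IsAmple L) : ∃ L' : X.Modules, RelAmple.IsRelAmple f L' := by
  obtain ⟨n, i, hi, hq, rfl⟩ := exists_immersion_of_isAmple f hL
  exact exists_isRelAmple_of_immersion i

end Groth.Agent.ProjAmple17
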